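import Cfsg.Agent.Lib.Fischer3.Basic
import Mathlib

/-!
# A class of 3-transpositions acting on a self-centralising elementary abelian normal 2-subgroup
-/

set_option autoImplicit false
set_option linter.unusedSectionVars false

namespace Cfsg.Agent.Fischer3Mod

open Cfsg ClassK Fischer3

universe u v

variable {G : Type u} [Group G] [Finite G] {M : Type v} [AddCommGroup M] [DistribMulAction G M]

/-- The normal subgroup, as the image of a module. -/
structure Ctx (ι : M → G) : Prop where
  add : ∀ v w, ι (v + w) = ι v * ι w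
  equiv : ∀ (g : G) (v : M), ι (g • v) = g * ι v * g⁻¹
  inj : Function.Injective ι
  two : ∀ v : M, v + v = 0
  self : ∀ g : G, (∀ v : M, g • v = v) → ∃ v, g = ι v
  core : ∀ N : Subgroup G, N.Normal → IsPGroup 2 N → ∀ g ∈ N, ∃ v, g = ι v
  center : ∀ g : G, (∀ h : G, h * g = g * h) → g = 1

/-- The image of `1 + a`. -/
def Im (M : Type v) [AddCommGroup M] [DistribMulAction G M] (a : G) (z : M) : Prop :=
  ∃ v : M, z = v + a • v

/-- Same action. -/
def Same (M : Type v) [AddCommGroup M] [DistribMulAction G M] (a b : G) : Prop :=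
  ∀ v : M, a • v = b • v

theorem Same.symm {a b : G} (h : Same M a b) : Same M b a := fun v => (h v).symm

theorem Same.trans {a b c : G} (h : Same M a b) (h' : Same M b c) : Same M a c :=
  fun v => (h v).trans (h' v)

variable {ι : M → G}

namespace Ctx

theorem zero (h : Ctx ι) : ι 0 = 1 := by
  have h0 := h.add 0 0
  rw [add_zero] at h0
  exact left_eq_mul.1 h0

theorem sq (h : Ctx ι) (v : M) : ι v * ι v = 1 := by rw [← h.add, h.two, h.zero]

theorem inv (h : Ctx ι) (v : M) : (ι v)⁻¹ = ι v := inv_eq_of_mul_eq_one_right (h.sq v)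

theorem push (h : Ctx ι) (g : G) (v : M) : g * ι v = ι (g • v) * g := by
  rw [h.equiv]; group

theorem triv (h : Ctx ι) (w v : M) : ι w • v = v := by
  apply h.inj
  rw [h.equiv, ← h.add, h.inv, ← h.add]
  congr 1
  rw [add_comm w v, add_assoc, h.two, add_zero]

theorem eq_of_add (h : Ctx ι) {x y : M} (e : x + y = 0) : x = y := by
  rw [← add_zero x, ← h.two y, ← add_assoc, e, zero_add]

theorem eq_of_three (h : Ctx ι) {x y z : M} (e : x + y + z = 0) : x = y + z :=
  h.eq_of_add (by rw [← add_assoc]; exact e)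

end Ctx

variable {D : Set G}

theorem invol (hD : IsThreeTranspositionClass D) {a : G} (ha : a ∈ D) (v : M) : a • a • v = v := by
  rw [← mul_smul, tt_mul_self hD.1 ha, one_smul]

theorem im_fixed (hD : IsThreeTranspositionClass D) {a : G} (ha : a ∈ D) {z : M} (hz : Im M a z) :
    a • z = z := by
  obtain ⟨v, rfl⟩ := hz
  rw [smul_add, invol hD ha, add_comm]

theorem im_congr {a b : G} (hab : Same M a b) {z : M} (hz : Im M a z) : Im M b z := by
  obtain ⟨v, rfl⟩ := hz
  exact ⟨v, by rw [hab v]⟩

theorem conj_mem (hD : IsThreeTranspositionClass D) {a b : G} (ha : a ∈ D) (hb : b ∈ D) :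
    a * b * a ∈ D := by
  have h := (class_group hD).2.1 a b hb
  rwa [tt_inv hD.1 ha] at h

theorem moves (h : Ctx ι) (hD : IsThreeTranspositionClass D) {a : G} (ha : a ∈ D) :
    ∃ v : M, a • v ≠ v := by
  by_contra hn
  push Not at hn
  obtain ⟨w, rfl⟩ := h.self _ hn
  obtain ⟨d, hd, hDd⟩ := hD.2.1
  have hcomm : ∀ e ∈ D, e * ι w = ι w * e := by
    intro e he
    obtain ⟨g, rfl⟩ := isConj_iff.1 (show IsConj (ι w) e from by
      rw [hDd] at ha he
      exact (isConj_comm.1 ha).trans he)
    rw [← h.equiv, ← h.add, ← h.add, add_comm]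
  have hc : ι w = 1 := h.center _ fun g => by
    have hle : Subgroup.closure D ≤ Subgroup.centralizer {ι w} :=
      (Subgroup.closure_le _).2 fun e he => Subgroup.mem_centralizer_singleton_iff.2 (hcomm e he)
    exact Subgroup.mem_centralizer_singleton_iff.1 (hle (by rw [hD.2.2]; trivial))
  have h2 := hD.1.1 _ ha
  rw [hc, orderOf_one] at h2
  exact absurd h2 (by norm_num)

theorem smul_comm_of (g k : G) (hgk : Commute g k) (v : M) : g • k • v = k • g • v := by
  rw [← mul_smul, hgk.eq, mul_smul]

/-- Members with commuting actions commute. -/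
theorem commute_of_actions (h : Ctx ι) (hD : IsThreeTranspositionClass D) {a b : G} (ha : a ∈ D)
    (hb : b ∈ D) (hv : ∀ v : M, a • b • v = b • a • v) : Commute a b := by
  refine (tt_commute_iff hD.1 ha hb).2 ?_
  rcases hD.1.2 a ha b hb with h2 | h3
  · exact h2
  have hfix : ∀ v : M, (a * b) ^ 2 • v = v := fun v => by
    rw [pow_two, mul_smul, mul_smul, mul_smul, ← hv (b • v), invol hD hb, invol hD ha]
  obtain ⟨w, hw⟩ := h.self _ hfix
  have h4 : (a * b) ^ 4 = 1 := by
    rw [show (a * b) ^ 4 = (a * b) ^ 2 * (a * b) ^ 2 from pow_add _ 2 2, hw, h.sq]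
  rw [pow_succ, h3, one_mul] at h4
  rw [h4, one_pow]

theorem Same.commute (h : Ctx ι) (hD : IsThreeTranspositionClass D) {a b : G} (ha : a ∈ D)
    (hb : b ∈ D) (hab : Same M a b) : Commute a b :=
  commute_of_actions h hD ha hb fun v => by rw [hab, hab v]

theorem conj_translate (h : Ctx ι) (hD : IsThreeTranspositionClass D) {a : G} (ha : a ∈ D) (v : M) :
    ι (v + a • v) * a ∈ D := by
  have hm := (class_group hD).2.1 (ι v) a ha
  rwa [h.inv, mul_assoc, h.push a v, ← mul_assoc, ← h.add] at hm

/-- Commuting members centralise each other's images. -/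
theorem fix_of_commute (h : Ctx ι) (hD : IsThreeTranspositionClass D) {a b : G} (ha : a ∈ D)
    (hb : b ∈ D) (hab : Commute a b) {z : M} (hz : Im M b z) : a • z = z := by
  have hbz := im_fixed hD hb hz
  obtain ⟨v, rfl⟩ := hz
  have hb' := conj_translate h hD hb v
  rcases hD.1.2 a ha _ hb' with h2 | h3
  · have hc := ((tt_commute_iff hD.1 ha hb').2 h2).eq
    rw [← mul_assoc, h.push a (v + b • v), mul_assoc, hab.eq, mul_assoc] at hc
    exact h.inj (mul_right_cancel hc)
  · set z := v + b • v
    set x := a * b with hx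
    have e1 : a * (ι z * b) = ι (a • z) * x := by rw [← mul_assoc, h.push, mul_assoc]
    rw [e1] at h3
    have hxx : x * x = 1 := by
      rw [← _root_.sq]; exact (tt_commute_iff hD.1 ha hb).1 hab
    have e2 : (ι (a • z) * x) ^ 3 = ι (x • a • z) * x := by
      calc (ι (a • z) * x) ^ 3 = ι (a • z) * (x * ι (a • z)) * (x * ι (a • z)) * x := by
            simp only [pow_succ, pow_zero, one_mul, mul_assoc]
        _ = ι (a • z) * (ι (x • a • z) * x) * (ι (x • a • z) * x) * x := by rw [h.push x]
        _ = ι (a • z) * ι (x • a • z) * (x * ι (x • a • z)) * (x * x) := by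
            simp only [mul_assoc]
        _ = ι (a • z) * ι (x • a • z) * (ι (a • z) * x) := by
            rw [hxx, mul_one, h.push x, ← mul_smul x x, hxx, one_smul]
        _ = ι (x • a • z) * x := by
            rw [← mul_assoc, ← h.add, ← h.add, add_right_comm, h.two, zero_add]
    rw [e2] at h3
    have hxt : ∀ u : M, x • u = u := fun u => by
      rw [← inv_eq_of_mul_eq_one_right h3, h.inv]
      exact h.triv _ u
    have hs : Same M a b := fun u => by
      have := hxt u
      rw [hx, mul_smul] at this
      calc a • u = a • a • b • u := by rw [this]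
        _ = b • u := invol hD ha _
    exact (hs z).trans hbz

/-- The relation coming from a pair of noncommuting members. -/
theorem noncomm_rel (h : Ctx ι) (hD : IsThreeTranspositionClass D) {a b : G} (ha : a ∈ D)
    (hb : b ∈ D) (hab : ¬ Commute a b) {z : M} (hz : Im M a z) :
    z + a • b • z + b • z = 0 := by
  obtain ⟨v, rfl⟩ := hz
  have ha' := conj_translate h hD ha v
  have hz' : Im M a (v + a • v) := ⟨v, rfl⟩
  generalize v + a • v = z at *
  set x := a * b with hx
  have hx3 : x ^ 3 = 1 := tt_noncommute_cube hD.1 ha hb hab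
  rcases hD.1.2 _ ha' b hb with h2 | h3
  · exfalso
    rw [mul_assoc] at h2
    have e2 : (ι z * x) ^ 2 = ι (z + x • z) * x ^ 2 := by
      calc (ι z * x) ^ 2 = ι z * (x * ι z) * x := by simp only [pow_two, mul_assoc]
        _ = ι z * (ι (x • z) * x) * x := by rw [h.push x]
        _ = ι (z + x • z) * x ^ 2 := by rw [h.add]; simp only [pow_two, mul_assoc]
    rw [← hx, e2] at h2
    have hxt : ∀ u : M, x ^ 2 • u = u := fun u => by
      rw [← inv_eq_of_mul_eq_one_right h2, h.inv]
      exact h.triv _ u
    have hx1 : ∀ u : M, x • u = u := fun u => by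
      conv_lhs => rw [← hxt u]
      rw [← mul_smul, ← pow_succ', hx3, one_smul]
    refine hab (Same.commute h hD ha hb fun u => ?_)
    have := hx1 u
    rw [hx, mul_smul] at this
    calc a • u = a • a • b • u := by rw [this]
      _ = b • u := invol hD ha _
  · rw [mul_assoc, ← hx] at h3
    have e3 : (ι z * x) ^ 3 = ι (z + x • z + x • x • z) * x ^ 3 := by
      calc (ι z * x) ^ 3 = ι z * (x * ι z) * (x * (ι z * x)) := by
            simp only [pow_succ, pow_zero, one_mul, mul_assoc]
        _ = ι z * (ι (x • z) * x) * (ι (x • z) * x * x) := by rw [← mul_assoc x (ι z) x, h.push]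
        _ = ι z * ι (x • z) * (x * ι (x • z)) * (x * x) := by simp only [mul_assoc]
        _ = ι z * ι (x • z) * (ι (x • x • z) * x) * (x * x) := by rw [h.push x]
        _ = ι (z + x • z + x • x • z) * x ^ 3 := by
            rw [h.add, h.add]; simp only [pow_succ, pow_zero, one_mul, mul_assoc]
    rw [e3, hx3, mul_one] at h3
    have h0 : z + x • z + x • x • z = 0 := h.inj (h3.trans h.zero.symm)
    have hxx : x • x • z = b • z := by
      have e : x * x = b * a := by
        have : x * x = x⁻¹ := eq_inv_of_mul_eq_one_left (by rw [← hx3]; simp only [pow_succ, pow_zero, one_mul])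
        rw [this, hx, mul_inv_rev, tt_inv hD.1 ha, tt_inv hD.1 hb]
      rw [← mul_smul, e, mul_smul, im_fixed hD ha hz']
    rwa [hxx, hx, mul_smul] at h0

theorem noncomm_rel' (h : Ctx ι) (hD : IsThreeTranspositionClass D) {a b : G} (ha : a ∈ D)
    (hb : b ∈ D) (hab : ¬ Commute a b) {z : M} (hz : Im M a z) :
    a • b • z + b • z = z :=
  (h.eq_of_add (by rw [← add_assoc]; exact noncomm_rel h hD ha hb hab hz)).symm

theorem eq_zero_of_fixed (h : Ctx ι) (hD : IsThreeTranspositionClass D) {a b : G} (ha : a ∈ D)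
    (hb : b ∈ D) (hab : ¬ Commute a b) {z : M} (hz : Im M a z) (hbz : b • z = z) : z = 0 := by
  have := noncomm_rel' h hD ha hb hab hz
  rw [hbz, im_fixed hD ha hz, h.two] at this
  exact this.symm

theorem same_of_relV (h : Ctx ι) (hD : IsThreeTranspositionClass D) {a b : G} (ha : a ∈ D)
    (hb : b ∈ D) (hr : RelV D a b) : Same M a b := by
  obtain ⟨w, hw⟩ := h.core _ (Basics.pCore_normal 2) (Basics.pCore_isPGroup 2) _
    (relV_mem_pCore (class_group hD) ha hb hr)
  intro v
  have : (a * b) • v = v := by rw [hw]; exact h.triv w v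
  rw [mul_smul] at this
  calc a • v = a • a • b • v := by rw [this]
    _ = b • v := invol hD ha _

/-- Members whose images meet have the same action. -/
theorem same_of_meet (h : Ctx ι) (hD : IsThreeTranspositionClass D) {a b : G} (ha : a ∈ D)
    (hb : b ∈ D) {z : M} (hza : Im M a z) (hzb : Im M b z) (hz : z ≠ 0) : Same M a b := by
  refine same_of_relV h hD ha hb fun e he => ⟨fun hc => ?_, fun hc => ?_⟩
  · by_contra hn
    exact hz (eq_zero_of_fixed h hD hb he hn hzb (fix_of_commute h hD he ha hc.symm hza))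
  · by_contra hn
    exact hz (eq_zero_of_fixed h hD ha he hn hza (fix_of_commute h hD he hb hc.symm hzb))

/-- Members with the same fixed vectors have the same action. -/
theorem same_of_fixed (h : Ctx ι) (hD : IsThreeTranspositionClass D) {a b : G} (ha : a ∈ D)
    (hb : b ∈ D) (hfix : ∀ v : M, a • v = v ↔ b • v = v) : Same M a b := by
  refine same_of_relV h hD ha hb fun e he => ⟨fun hc => ?_, fun hc => ?_⟩
  · by_contra hn
    obtain ⟨v, hv⟩ := moves h hD he
    have hz : Im M e (v + e • v) := ⟨v, rfl⟩
    exact hv (h.eq_of_add (eq_zero_of_fixed h hD he hb (fun hh => hn hh.symm) hz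
      ((hfix _).1 (fix_of_commute h hD ha he hc hz)))).symm
  · by_contra hn
    obtain ⟨v, hv⟩ := moves h hD he
    have hz : Im M e (v + e • v) := ⟨v, rfl⟩
    exact hv (h.eq_of_add (eq_zero_of_fixed h hD he ha (fun hh => hn hh.symm) hz
      ((hfix _).2 (fix_of_commute h hD hb he hc hz)))).symm

/-- An involution commuting with the class modulo the subgroup acts trivially. -/
theorem act_trivial (h : Ctx ι) (hD : IsThreeTranspositionClass D) {u : G} (huu : u * u = 1)
    (hc : ∀ f ∈ D, ∀ v : M, u • f • v = f • u • v) : ∀ v : M, u • v = v := by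
  let T : Subgroup G :=
    { carrier := {g | ∀ v : M, u • g • v = g • u • v}
      one_mem' := fun v => by simp
      mul_mem' := fun {g k} hg hk v => by rw [mul_smul, hg, hk, mul_smul]
      inv_mem' := fun {g} hg v => by
        have := hg (g⁻¹ • v)
        rw [smul_inv_smul] at this
        rw [eq_inv_smul_iff]
        exact this.symm }
  have hT : ∀ g : G, ∀ v : M, u • g • v = g • u • v := fun g => by
    have hle : Subgroup.closure D ≤ T := (Subgroup.closure_le _).2 hc
    exact hle (by rw [hD.2.2]; trivial)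
  have hu : ∀ v : M, u • u • v = v := fun v => by rw [← mul_smul, huu, one_smul]
  let N : Subgroup G :=
    { carrier := {g | (∀ v : M, g • v = v) ∨ ∀ v : M, g • v = u • v}
      one_mem' := Or.inl fun v => one_smul _ _
      mul_mem' := fun {g k} hg hk => by
        rcases hg with hg | hg <;> rcases hk with hk | hk
        · exact Or.inl fun v => by rw [mul_smul, hk, hg]
        · exact Or.inr fun v => by rw [mul_smul, hg, hk]
        · exact Or.inr fun v => by rw [mul_smul, hk, hg]
        · exact Or.inl fun v => by rw [mul_smul, hk, hg, hu]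
      inv_mem' := fun {g} hg => by
        rcases hg with hg | hg
        · exact Or.inl fun v => by rw [inv_smul_eq_iff, hg]
        · exact Or.inr fun v => by rw [inv_smul_eq_iff, hg, hu] }
  have hn : N.Normal := ⟨fun n hn g => by
    rcases hn with hn | hn
    · exact Or.inl fun v => by rw [mul_smul, mul_smul, hn, smul_inv_smul]
    · exact Or.inr fun v => by rw [mul_smul, mul_smul, hn, ← hT g, smul_inv_smul]⟩
  have hp : IsPGroup 2 N := by
    rintro ⟨g, hg⟩
    refine ⟨2, Subtype.ext ?_⟩
    have hgg : ∀ v : M, (g * g) • v = v := fun v => by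
      rcases hg with hg | hg <;> simp [mul_smul, hg, hu]
    obtain ⟨w, hw⟩ := h.self _ hgg
    show g ^ (2 ^ 2) = 1
    rw [show (2 : ℕ) ^ 2 = 2 + 2 from rfl, pow_add, pow_two, hw, h.sq]
  obtain ⟨w, hw⟩ := h.core N hn hp u (Or.inr fun v => rfl)
  intro v
  rw [hw]
  exact h.triv w v

theorem exists_noncomm (h : Ctx ι) (hD : IsThreeTranspositionClass D) {a : G} (ha : a ∈ D) :
    ∃ b ∈ D, ¬ Commute a b := by
  by_contra hn
  push Not at hn
  obtain ⟨v, hv⟩ := moves h hD ha
  exact hv (act_trivial h hD (tt_mul_self hD.1 ha)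
    (fun f hf w => smul_comm_of a f (hn f hf) w) v)

/-- Members in one coset differ by an element of the image. -/
theorem shift (h : Ctx ι) (hD : IsThreeTranspositionClass D) {c c' : G} (hc : c ∈ D) (hc' : c' ∈ D)
    {δ : M} (hδ : c' * c = ι δ) : Im M c δ := by
  obtain ⟨a, ha, hca⟩ := exists_noncomm h hD hc
  have e : c' = ι δ * c := by rw [← hδ, mul_assoc, tt_mul_self hD.1 hc, mul_one]
  have hs : Same M c' c := fun v => by rw [e, mul_smul, h.triv]
  have hcδ : c • δ = δ := by
    have hcc := (hs.commute h hD hc' hc).eq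
    rw [hδ, e, ← mul_assoc, h.push c δ, mul_assoc, tt_mul_self hD.1 hc, mul_one] at hcc
    exact (h.inj hcc).symm
  have hn : ¬ Commute c' a := fun hc'a =>
    hca (commute_of_actions h hD hc ha fun v => by rw [← hs, ← hs v, smul_comm_of c' a hc'a])
  have h3 := tt_noncommute_cube hD.1 hc' ha hn
  set x := c * a with hx
  have hx3 : x ^ 3 = 1 := tt_noncommute_cube hD.1 hc ha hca
  rw [e, mul_assoc, ← hx] at h3
  have e3 : (ι δ * x) ^ 3 = ι (δ + x • δ + x • x • δ) * x ^ 3 := by
    calc (ι δ * x) ^ 3 = ι δ * (x * ι δ) * (x * (ι δ * x)) := by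
          simp only [pow_succ, pow_zero, one_mul, mul_assoc]
      _ = ι δ * (ι (x • δ) * x) * (ι (x • δ) * x * x) := by rw [← mul_assoc x (ι δ) x, h.push]
      _ = ι δ * ι (x • δ) * (x * ι (x • δ)) * (x * x) := by simp only [mul_assoc]
      _ = ι δ * ι (x • δ) * (ι (x • x • δ) * x) * (x * x) := by rw [h.push x]
      _ = ι (δ + x • δ + x • x • δ) * x ^ 3 := by
          rw [h.add, h.add]; simp only [pow_succ, pow_zero, one_mul, mul_assoc]
  rw [e3, hx3, mul_one] at h3
  have h0 : δ + x • δ + x • x • δ = 0 := h.inj (h3.trans h.zero.symm)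
  have hxx : x • x • δ = a • δ := by
    have e : x * x = a * c := by
      have : x * x = x⁻¹ := eq_inv_of_mul_eq_one_left (by rw [← hx3]; simp only [pow_succ, pow_zero, one_mul])
      rw [this, hx, mul_inv_rev, tt_inv hD.1 hc, tt_inv hD.1 ha]
    rw [← mul_smul, e, mul_smul, hcδ]
  rw [hxx, hx, mul_smul] at h0
  exact ⟨a • δ, (h.eq_of_three h0).trans (add_comm _ _)⟩

/-- A member's image avoids the vectors with zero sum over a line none of whose points commute with it. -/
theorem off_line (h : Ctx ι) (hD : IsThreeTranspositionClass D) {a b c d : G} (ha : a ∈ D)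
    (hb : b ∈ D) (hc : c ∈ D) (hd : d ∈ D) (hda : ¬ Commute d a) (hdb : ¬ Commute d b)
    (hdc : ¬ Commute d c) {z : M} (hz : Im M d z) (hsum : a • z + b • z + c • z = 0) : z = 0 := by
  have e := congrArg (fun y => d • y) hsum
  simp only [smul_add, smul_zero] at e
  have hs : (d • a • z + a • z) + (d • b • z + b • z) + (d • c • z + c • z) = 0 := by
    calc _ = (d • a • z + d • b • z + d • c • z) + (a • z + b • z + c • z) := by abel
      _ = 0 := by rw [e, hsum, add_zero]
  rw [noncomm_rel' h hD hd ha hda hz, noncomm_rel' h hD hd hb hdb hz,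
    noncomm_rel' h hD hd hc hdc hz, h.two, zero_add] at hs
  exact hs

end Cfsg.Agent.Fischer3Mod
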