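import Cfsg.Agent.Lib.Fischer3Mod.Basic

/-!
# Two classes: a moved member determines a third member with the same action
-/

set_option autoImplicit false
set_option linter.unusedSectionVars false

namespace Cfsg.Agent.Fischer3Mod

open Cfsg ClassK Fischer3

universe u v

variable {G : Type u} [Group G] [Finite G] {M : Type v} [AddCommGroup M] [DistribMulAction G M]
  {ι : M → G} {D E : Set G}

theorem flip_mem (hD : IsThreeTranspositionClass D) (hE : IsThreeTranspositionClass E) {ε a : G}
    (hε : ε ∈ E) (ha : a ∈ D) : ε * a * ε ∈ D := by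
  have h := (class_group hD).2.1 ε a ha
  rwa [tt_inv hE.1 hε] at h

theorem step_commute (h : Ctx ι) (hD : IsThreeTranspositionClass D) (hE : IsThreeTranspositionClass E)
    {ε a : G} (hε : ε ∈ E) (ha : a ∈ D) (hc : Commute a (ε * a * ε)) : Same M a (ε * a * ε) := by
  set b := ε * a * ε with hb
  have hbD : b ∈ D := flip_mem hD hE hε ha
  have he' : a * ε * a ∈ E := flip_mem hE hD ha hε
  have hcomm : Commute (a * ε * a) ε := by
    show a * ε * a * ε = ε * (a * ε * a)
    have h' := hc.eq
    rw [hb] at h'
    simpa [mul_assoc] using h'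
  have hεb : ∀ v : M, b • v = ε • a • ε • v := fun v => by rw [hb, mul_smul, mul_smul]
  have key : ∀ z : M, Im M ε z → a • z = b • z := by
    intro z hz
    have e1 := im_fixed hE hε hz
    have e2 := fix_of_commute h hE he' hε hcomm hz
    rw [hεb, e1]
    rw [mul_smul, mul_smul] at e2
    calc a • z = a • a • ε • a • z := by rw [e2]
      _ = ε • a • z := invol hD ha _
  by_cases hall : ∀ v : M, a • (v + ε • v) = v + ε • v
  · refine same_of_fixed h hD ha hbD fun v => ?_
    have h1 := hall v
    rw [smul_add] at h1
    have h2 : a • ε • v = ε • b • v := by rw [hεb, invol hE hε]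
    rw [h2] at h1
    constructor
    · intro hv
      rw [hv] at h1
      have := congrArg (fun y => ε • y) (add_left_cancel h1)
      simpa only [invol hE hε] using this
    · intro hv
      rw [hv] at h1
      exact add_right_cancel h1
  · push Not at hall
    obtain ⟨v, hv⟩ := hall
    set z := v + ε • v
    have hz : Im M ε z := ⟨v, rfl⟩
    refine same_of_meet h hD ha hbD (z := z + a • z) ⟨z, rfl⟩ ⟨z, by rw [key z hz]⟩ fun e => hv ?_
    exact (h.eq_of_add e).symm

/-- The data attached to a member moved by a member of the second class. -/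
structure Moved (D E : Set G) (ε a b c : G) : Prop where
  hε : ε ∈ E
  ha : a ∈ D
  hb : b ∈ D
  hc : c ∈ D
  hab : ¬ Commute a b
  hca : ¬ Commute c a
  hcb : ¬ Commute c b
  hbe : b = ε * a * ε
  hce : c = a * b * a
  hce' : c = b * a * b
  hcm : Commute ε c

theorem moved (hD : IsThreeTranspositionClass D) (hE : IsThreeTranspositionClass E) {ε a : G}
    (hε : ε ∈ E) (ha : a ∈ D) (hab : ¬ Commute a (ε * a * ε)) :
    Moved D E ε a (ε * a * ε) (a * (ε * a * ε) * a) := by
  set b := ε * a * ε with hb
  have hbD : b ∈ D := flip_mem hD hE hε ha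
  have hbr := tt_braid hD.1 ha hbD hab
  have hee := tt_mul_self hE.1 hε
  have haa := tt_mul_self hD.1 ha
  have hbb := tt_mul_self hD.1 hbD
  clear_value b
  refine ⟨hε, ha, hbD, conj_mem hD ha hbD, hab, fun hc => hab ?_, fun hc => hab ?_, hb, rfl, hbr, ?_⟩
  · have h1 : a * b = b * a := by
      calc a * b = a * b * (a * a) := by rw [haa, mul_one]
        _ = a * b * a * a := by simp only [mul_assoc]
        _ = a * (a * b * a) := hc.eq
        _ = b * a := by rw [← mul_assoc, ← mul_assoc, haa, one_mul]
    exact h1
  · rw [hbr] at hc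
    have h1 : b * a = a * b := by
      calc b * a = b * a * (b * b) := by rw [hbb, mul_one]
        _ = b * a * b * b := by simp only [mul_assoc]
        _ = b * (b * a * b) := hc.eq
        _ = a * b := by rw [← mul_assoc, ← mul_assoc, hbb, one_mul]
    exact h1.symm
  · have hea : ε * a = b * ε := by rw [hb, mul_assoc, hee, mul_one]
    have heb : ε * b = a * ε := by rw [hb, ← mul_assoc, ← mul_assoc, hee, one_mul]
    show ε * (a * b * a) = a * b * a * ε
    calc ε * (a * b * a) = ε * a * b * a := by simp only [mul_assoc]
      _ = b * (ε * b) * a := by rw [hea]; simp only [mul_assoc]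
      _ = b * a * (ε * a) := by rw [heb]; simp only [mul_assoc]
      _ = b * a * b * ε := by rw [hea]; simp only [mul_assoc]
      _ = a * b * a * ε := by rw [hbr]

variable {ε a b c : G}

theorem Moved.eps (_ : Ctx ι) (_ : IsThreeTranspositionClass E) (m : Moved D E ε a b c) (v : M) :
    b • v = ε • a • ε • v := by rw [m.hbe, mul_smul, mul_smul]

/-- The relation satisfied by the image of `ε`. -/
theorem Moved.line (h : Ctx ι) (hD : IsThreeTranspositionClass D) (hE : IsThreeTranspositionClass E)
    (m : Moved D E ε a b c) {z : M} (hz : Im M ε z) : z + b • a • z + a • b • z = 0 := by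
  have he' : a * ε * a ∈ E := flip_mem hE hD m.ha m.hε
  have hn : ¬ Commute ε (a * ε * a) := by
    intro hc
    apply m.hab
    have h' := hc.eq
    show a * b = b * a
    rw [m.hbe]
    simpa [mul_assoc] using h'.symm
  have h1 := noncomm_rel h hE m.hε he' hn hz
  have e1 := im_fixed hE m.hε hz
  have e2 : (a * ε * a) • z = a • b • z := by rw [m.eps h hE, mul_smul, mul_smul, e1]
  have e3 : ε • (a * ε * a) • z = b • a • z := by rw [mul_smul, mul_smul, m.eps h hE]
  rwa [e3, e2] at h1

theorem Moved.exists_meet (h : Ctx ι) (hD : IsThreeTranspositionClass D)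
    (hE : IsThreeTranspositionClass E) (m : Moved D E ε a b c) :
    ∃ w : M, w ≠ 0 ∧ Im M ε w ∧ Im M c w := by
  by_cases hall : ∀ v : M, c • (v + ε • v) = v + ε • v
  · obtain ⟨v, hv⟩ := moves h hE m.hε
    set z := v + ε • v with hzdef
    have hz : Im M ε z := ⟨v, rfl⟩
    refine ⟨z, fun e => hv (h.eq_of_add e).symm, hz, a • z, ?_⟩
    have e1 := hall v
    rw [m.hce, mul_smul, mul_smul] at e1
    have e2 : b • a • z = a • z := by
      calc b • a • z = a • a • b • a • z := (invol hD m.ha _).symm
        _ = a • z := by rw [e1]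
    have e3 : c • a • z = a • b • z := by rw [m.hce, mul_smul, mul_smul, invol hD m.ha]
    have := m.line h hD hE hz
    rw [e2] at this
    rw [e3]
    exact h.eq_of_three this
  · push Not at hall
    obtain ⟨v, hv⟩ := hall
    refine ⟨(v + ε • v) + c • (v + ε • v), fun e => hv (h.eq_of_add e).symm, ⟨v + c • v, ?_⟩, ⟨_, rfl⟩⟩
    rw [smul_add, smul_add, smul_comm_of ε c m.hcm]
    abel

/-- A member fixed by `ε` commutes with `c`. -/
theorem Moved.fixed_commutes (h : Ctx ι) (hD : IsThreeTranspositionClass D)
    (hE : IsThreeTranspositionClass E) (m : Moved D E ε a b c) {d : G} (hd : d ∈ D)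
    (hεd : ∀ v : M, ε • d • v = d • ε • v) : Commute c d := by
  by_contra hcd
  obtain ⟨w, hw0, hwε, hwc⟩ := m.exists_meet h hD hE
  set p := w + d • w with hp
  have hpd : Im M d p := ⟨w, rfl⟩
  have hpε : Im M ε p := by
    obtain ⟨v, hv⟩ := hwε
    refine ⟨v + d • v, ?_⟩
    rw [hp, hv, smul_add, smul_add, hεd]
    abel
  have hp0 : p ≠ 0 := fun e => by
    have e1 : p = c • d • w := by
      calc p = c • d • w + d • w + d • w := by rw [noncomm_rel' h hD m.hc hd hcd hwc, hp]
        _ = c • d • w := by rw [add_assoc, h.two, add_zero]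
    rw [e, eq_comm, smul_eq_zero_iff_eq, smul_eq_zero_iff_eq] at e1
    exact hw0 e1
  have hq := m.line h hD hE hpε
  have hds : ∀ v : M, ε • d • ε • v = d • v := fun v => by rw [hεd, invol hE m.hε]
  have hflip : ∀ v : M, a • v = ε • b • ε • v := fun v => by
    rw [m.eps h hE, invol hE m.hε, invol hE m.hε]
  by_cases hda : Commute d a
  · have e1 : a • p = p := fix_of_commute h hD m.ha hd hda.symm hpd
    rw [e1] at hq
    have hs : Same M d a := same_of_meet h hD hd m.ha hpd ⟨b • p, h.eq_of_three hq⟩ hp0
    exact m.hab (Same.commute h hD m.ha m.hb fun v => by rw [m.eps h hE, ← hs, ← hs, hds])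
  by_cases hdb : Commute d b
  · have e1 : b • p = p := fix_of_commute h hD m.hb hd hdb.symm hpd
    rw [e1] at hq
    have hs : Same M d b := same_of_meet h hD hd m.hb hpd
      ⟨a • p, (h.eq_of_three hq).trans (add_comm _ _)⟩ hp0
    exact m.hab (Same.commute h hD m.ha m.hb fun v => by rw [hflip, ← hs, ← hs, hds])
  have e2 := congrArg (fun y => a • y) hq
  simp only [smul_add, smul_zero, invol hD m.ha] at e2
  rw [show a • b • a • p = c • p by rw [m.hce, mul_smul, mul_smul]] at e2
  refine hp0 (off_line h hD m.ha m.hb m.hc hd hda hdb (fun e => hcd e.symm) hpd ?_)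
  rw [← e2]
  abel

/-- `ε` has the action of `c`. -/
theorem Moved.same (h : Ctx ι) (hD : IsThreeTranspositionClass D) (hE : IsThreeTranspositionClass E)
    (m : Moved D E ε a b c) : Same M ε c := by
  obtain ⟨w, hw0, hwε, hwc⟩ := m.exists_meet h hD hE
  have hee := invol (M := M) hE m.hε
  have hcc := invol (M := M) hD m.hc
  have hεc := smul_comm_of (M := M) ε c m.hcm
  have key : ∀ f ∈ D, Same M (ε * f * ε) (c * f * c) := by
    intro f hf
    set k := ε * f * ε with hkdef
    have hkD : k ∈ D := flip_mem hD hE m.hε hf
    have hk : ∀ v : M, k • v = ε • f • ε • v := fun v => by rw [hkdef, mul_smul, mul_smul]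
    by_cases hfk : Commute f k
    · have hs : Same M f k := step_commute h hD hE m.hε hf hfk
      have hεf : ∀ v : M, ε • f • v = f • ε • v := fun v => by rw [hs (ε • v), hk, hee]
      have hcf := m.fixed_commutes h hD hE hf hεf
      exact fun v => by rw [← hs, hcf.eq, mul_assoc, tt_mul_self hD.1 m.hc, mul_one]
    · have m' := moved hD hE m.hε hf hfk
      set j := f * k * f with hj
      have hεj := smul_comm_of (M := M) ε j m'.hcm
      by_cases hcf : Commute c f
      · exfalso
        have e1 : f • w = w := fix_of_commute h hD hf m.hc hcf.symm hwc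
        have hq := m'.line h hD hE hwε
        rw [e1] at hq
        have hs : Same M f c := same_of_meet h hD hf m.hc ⟨k • w, h.eq_of_three hq⟩ hwc hw0
        exact hfk (Same.commute h hD hf hkD fun v => by rw [hk, hs, hs, hεc, hee])
      · have hcj := m.fixed_commutes h hD hE m'.hc hεj
        have e1 : j • w = w := fix_of_commute h hD m'.hc m.hc hcj.symm hwc
        rw [hj, mul_smul, mul_smul] at e1
        have e2 : k • f • w = f • w := by
          calc k • f • w = f • f • k • f • w := (invol hD hf _).symm
            _ = f • w := by rw [e1]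
        have e3 : j • f • w = f • k • w := by rw [hj, mul_smul, mul_smul, invol hD hf]
        have hq := m'.line h hD hE hwε
        rw [e2] at hq
        have hwj : Im M j w := ⟨f • w, by rw [e3]; exact h.eq_of_three hq⟩
        have hs : Same M j c := same_of_meet h hD m'.hc m.hc hwj hwc hw0
        have hel : j * f * j = k := by
          have hbr := tt_braid hD.1 hf hkD hfk
          have hff := tt_mul_self hD.1 hf
          have hkk := tt_mul_self hD.1 hkD
          calc j * f * j = f * k * (f * f) * (f * k * f) := by rw [hj]; simp only [mul_assoc]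
            _ = f * (k * f * k) * f := by rw [hff, mul_one]; simp only [mul_assoc]
            _ = f * (f * k * f) * f := by rw [hbr]
            _ = k := by rw [← mul_assoc, ← mul_assoc, hff, one_mul, mul_assoc, hff, mul_one]
        intro v
        rw [← hel]
        simp only [mul_smul]
        rw [hs, hs]
  have hu : ∀ v : M, (ε * c) • v = v := act_trivial h hD
    (by rw [mul_assoc, ← mul_assoc c ε c, ← m.hcm.eq, mul_assoc, tt_mul_self hD.1 m.hc, mul_one,
      tt_mul_self hE.1 m.hε])
    (fun f hf v => by
      have e := key f hf (c • v)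
      simp only [mul_smul, hcc] at e
      have e' := congrArg (fun y => ε • y) e
      simp only [hee] at e'
      rw [mul_smul, mul_smul]
      exact e'.symm)
  intro v
  have e := hu (c • v)
  rwa [mul_smul, hcc] at e

end Cfsg.Agent.Fischer3Mod
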