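import Cfsg.Agent.Lib.Fischer3Mod.Line

/-!
# The second class is contained in the first
-/

set_option autoImplicit false
set_option linter.unusedSectionVars false

namespace Cfsg.Agent.Fischer3Mod

open Cfsg ClassK Fischer3

universe u v

variable {G : Type u} [Group G] [Finite G] {M : Type v} [AddCommGroup M] [DistribMulAction G M]
  {ι : M → G} {D E : Set G}

theorem fixd (h : Ctx ι) (hD : IsThreeTranspositionClass D) (hE : IsThreeTranspositionClass E)
    {ε d g : G} (hε : ε ∈ E) (hd : d ∈ D) (hs : Same M ε d) {v : M} (hv : ε * d = ι v)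
    (hg : g ∈ D) (hgd : Commute g d) : g • v = v := by
  obtain ⟨d₀, -, hDd⟩ := hD.2.1
  have hd' := hd
  have hg' := hg
  rw [hDd] at hd' hg'
  obtain ⟨k, hk⟩ := isConj_iff.1 (show IsConj d g from (isConj_comm.1 hd').trans hg')
  have heg : k * ε * k⁻¹ ∈ E := (class_group hE).2.1 k ε hε
  set e := k * ε * k⁻¹ with hee
  have hdd := tt_mul_self hD.1 hd
  have hgg := tt_mul_self hD.1 hg
  have hw : e * g = ι (k • v) := by rw [h.equiv, ← hv, hee, ← hk]; group
  clear_value e
  set w := k • v
  clear_value w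
  have he' : e = ι w * g := by rw [← hw, mul_assoc, hgg, mul_one]
  have hε' : ε = ι v * d := by rw [← hv, mul_assoc, hdd, mul_one]
  have hse : Same M e g := fun u => by rw [he', mul_smul, h.triv]
  have hcomm : Commute ε e := commute_of_actions h hE hε heg fun u => by
    rw [hse, hs, hs u, hse, smul_comm_of d g hgd.symm]
  have e1 : ι (v + d • w) * (d * g) = ι (w + g • v) * (d * g) := by
    have := hcomm.eq
    rw [hε', he'] at this
    calc ι (v + d • w) * (d * g) = ι v * (ι (d • w) * d) * g := by rw [h.add]; simp only [mul_assoc]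
      _ = ι v * d * (ι w * g) := by rw [← h.push]; simp only [mul_assoc]
      _ = ι w * g * (ι v * d) := this
      _ = ι w * (g * ι v) * d := by simp only [mul_assoc]
      _ = ι (w + g • v) * (d * g) := by rw [h.push, h.add, ← hgd.eq]; simp only [mul_assoc]
  have e2 := h.inj (mul_right_cancel e1)
  have e3 : v + g • v = w + d • w := by
    calc v + g • v = v + g • v + (d • w + d • w) := by rw [h.two, add_zero]
      _ = (v + d • w) + (g • v + d • w) := by abel
      _ = (w + g • v) + (g • v + d • w) := by rw [e2]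
      _ = w + d • w + (g • v + g • v) := by abel
      _ = w + d • w := by rw [h.two, add_zero]
  by_contra hne
  have hz : v + g • v ≠ 0 := fun e' => hne (h.eq_of_add e').symm
  have hsame : Same M g d := same_of_meet h hD hg hd ⟨v, rfl⟩ ⟨w, e3⟩ hz
  apply hne
  rw [hsame]
  have hdc : Commute ε ε := Commute.refl ε
  have e4 : ι (v + d • v) = 1 := by
    calc ι (v + d • v) = ι v * (ι (d • v) * d) * d := by
          rw [h.add, mul_assoc, mul_assoc (ι (d • v)) d d, hdd, mul_one]
      _ = ε * ε := by rw [← h.push, hε']; simp only [mul_assoc]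
      _ = 1 := tt_mul_self hE.1 hε
  exact (h.eq_of_add (h.inj (e4.trans h.zero.symm))).symm

theorem exists_moved' (h : Ctx ι) (hD : IsThreeTranspositionClass D) (hE : IsThreeTranspositionClass E)
    {ε : G} (hε : ε ∈ E) : ∃ a ∈ D, ¬ Commute a (ε * a * ε) := by
  by_contra hn
  push Not at hn
  obtain ⟨v, hv⟩ := moves h hE hε
  refine hv (act_trivial h hD (tt_mul_self hE.1 hε) (fun f hf u => ?_) v)
  have hs := step_commute h hD hE hε hf (hn f hf) (ε • u)
  rw [mul_smul, mul_smul, invol hE hε] at hs
  exact hs.symm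

/-- The vector attached to a moved member. -/
theorem Moved.vec (h : Ctx ι) (hD : IsThreeTranspositionClass D) (hE : IsThreeTranspositionClass E)
    {ε a b c : G} (m : Moved D E ε a b c) :
    ∃ ν : M, ε * c = ι ν ∧ a • ν = ν ∧ b • ν = ν ∧ c • ν = ν ∧ ι ν * a ∈ E ∧ ι ν * b ∈ E := by
  have hs := m.same h hD hE
  obtain ⟨ν, hν⟩ := h.self (ε * c) fun v => by rw [mul_smul, hs, invol hD m.hc]
  have haa := tt_mul_self hD.1 m.ha
  have hbb := tt_mul_self hD.1 m.hb
  have hcc := tt_mul_self hD.1 m.hc
  have hee := tt_mul_self hE.1 m.hε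
  have hcac : c * a * c = b := by
    rw [m.hce]
    calc a * b * a * a * (a * b * a) = a * b * (a * a) * (a * b * a) := by simp only [mul_assoc]
      _ = a * (b * a * b) * a := by rw [haa, mul_one]; simp only [mul_assoc]
      _ = a * (a * b * a) * a := by rw [← m.hce', m.hce]
      _ = b := by rw [← mul_assoc, ← mul_assoc, haa, one_mul, mul_assoc, haa, mul_one]
  have hcν : c • ν = ν := h.inj <| by
    rw [h.equiv, ← hν, tt_inv hD.1 m.hc, ← mul_assoc, ← m.hcm.eq]
    simp only [mul_assoc, hcc, mul_one]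
  have hεb : ε * b * ε = a := by
    rw [m.hbe]
    calc ε * (ε * a * ε) * ε = (ε * ε) * a * (ε * ε) := by simp only [mul_assoc]
      _ = a := by rw [hee, one_mul, mul_one]
  have haν : a • ν = ν := by
    have e : ι ν * a * (ι ν)⁻¹ = a := by
      rw [← hν, mul_inv_rev, tt_inv hD.1 m.hc, tt_inv hE.1 m.hε]
      calc ε * c * a * (c * ε) = ε * (c * a * c) * ε := by simp only [mul_assoc]
        _ = a := by rw [hcac, hεb]
    rw [mul_inv_eq_iff_eq_mul, h.push a ν] at e
    exact (h.inj (mul_right_cancel e)).symm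
  have hbν : b • ν = ν := by rw [← hcac, mul_smul, mul_smul, hcν, haν, hcν]
  have hεe : ε = ι ν * c := by rw [← hν, mul_assoc, hcc, mul_one]
  refine ⟨ν, hν, haν, hbν, hcν, ?_, ?_⟩
  · have hm := flip_mem hE hD m.hb m.hε
    rw [hεe, ← mul_assoc, h.push b ν, hbν] at hm
    have e : b * c * b = a := by
      rw [m.hce']
      calc b * (b * a * b) * b = (b * b) * a * (b * b) := by simp only [mul_assoc]
        _ = a := by rw [hbb, one_mul, mul_one]
    rwa [mul_assoc, mul_assoc, ← mul_assoc b c b, e] at hm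
  · have hm := flip_mem hE hD m.ha m.hε
    rw [hεe, ← mul_assoc, h.push a ν, haν] at hm
    have e : a * c * a = b := by
      rw [m.hce]
      calc a * (a * b * a) * a = (a * a) * b * (a * a) := by simp only [mul_assoc]
        _ = b := by rw [haa, one_mul, mul_one]
    rwa [mul_assoc, mul_assoc, ← mul_assoc a c a, e] at hm

/-- A member off the line is moved by a member of the second class with the action of `c`. -/
theorem moved_of_same (h : Ctx ι) (hD : IsThreeTranspositionClass D) (hE : IsThreeTranspositionClass E)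
    {ε c f : G} (hε : ε ∈ E) (hc : c ∈ D) (hf : f ∈ D) (hs : Same M ε c) (hfc : ¬ Commute f c) :
    ¬ Commute f (ε * f * ε) := by
  intro hcomm
  have hbr := tt_braid hD.1 hc hf (fun e => hfc e.symm)
  have hm : ∀ v : M, (ε * f * ε) • v = (c * f * c) • v := fun v => by
    simp only [mul_smul]
    rw [hs, hs v]
  have h2 : Commute f (c * f * c) := commute_of_actions h hD hf (conj_mem hD hc hf) fun v => by
    rw [← hm, ← hm, smul_comm_of f (ε * f * ε) hcomm]
  apply hfc
  rw [hbr] at h2
  have hff := tt_mul_self hD.1 hf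
  show f * c = c * f
  calc f * c = f * c * (f * f) := by rw [hff, mul_one]
    _ = f * c * f * f := by simp only [mul_assoc]
    _ = f * (f * c * f) := h2.eq.symm
    _ = c * f := by rw [← mul_assoc, ← mul_assoc, hff, one_mul]

/-- Every member of the second class lies in the first. -/
theorem mem_of_mem (h : Ctx ι) (hD : IsThreeTranspositionClass D) (hE : IsThreeTranspositionClass E)
    {ε : G} (hε : ε ∈ E) : ε ∈ D := by
  obtain ⟨a, ha, hab⟩ := exists_moved' h hD hE hε
  have m := moved hD hE hε ha hab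
  set b := ε * a * ε
  set c := a * b * a
  clear_value b c
  have hs := m.same h hD hE
  obtain ⟨ν, hν, haν, hbν, hcν, hEa, hEb⟩ := m.vec h hD hE
  have hsa : Same M (ι ν * a) a := fun u => by rw [mul_smul, h.triv]
  have hsb : Same M (ι ν * b) b := fun u => by rw [mul_smul, h.triv]
  have hva : ι ν * a * a = ι ν := by rw [mul_assoc, tt_mul_self hD.1 ha, mul_one]
  have hvb : ι ν * b * b = ι ν := by rw [mul_assoc, tt_mul_self hD.1 m.hb, mul_one]
  have hall : ∀ f ∈ D, f • ν = ν := by
    intro f hf
    by_cases hfc : Commute f c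
    · exact fixd h hD hE hε m.hc hs hν hf hfc
    by_cases hfa : Commute f a
    · exact fixd h hD hE hEa ha hsa hva hf hfa
    by_cases hfb : Commute f b
    · exact fixd h hD hE hEb m.hb hsb hvb hf hfb
    have m₁ := moved hD hE hε hf (moved_of_same h hD hE hε m.hc hf hs hfc)
    set k₁ := ε * f * ε
    set c₁ := f * k₁ * f
    clear_value k₁ c₁
    have hs₁ := m₁.same h hD hE
    obtain ⟨ν₁, hν₁, hfν₁, -, -, hEf₁, -⟩ := m₁.vec h hD hE
    have m₂ := moved hD hE hEa hf (moved_of_same h hD hE hEa ha hf hsa hfa)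
    set k₂ := ι ν * a * f * (ι ν * a)
    set c₂ := f * k₂ * f
    clear_value k₂ c₂
    have hs₂ := m₂.same h hD hE
    obtain ⟨ν₂, hν₂, hfν₂, -, -, hEf₂, -⟩ := m₂.vec h hD hE
    have hδ : Im M c (ν + ν₁) := by
      have e : c * c₁ = ι (ν + ν₁) := by
        rw [h.add, ← hν, ← hν₁, m.hcm.eq]
        calc c * c₁ = c * (ε * ε) * c₁ := by rw [tt_mul_self hE.1 hε, mul_one]
          _ = c * ε * (ε * c₁) := by simp only [mul_assoc]
      exact im_congr (hs₁.symm.trans hs) (shift h hD m₁.hc m.hc e)
    have hδ₂ : Im M a (ν + ν₂) := by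
      have hca : Commute (ι ν * a) a := by
        show ι ν * a * a = a * (ι ν * a)
        rw [← mul_assoc, h.push a ν, haν]
      have e : a * c₂ = ι (ν + ν₂) := by
        rw [h.add, ← hν₂]
        nth_rewrite 1 [← hva]
        rw [hca.eq]
        calc a * c₂ = a * ((ι ν * a) * (ι ν * a)) * c₂ := by rw [tt_mul_self hE.1 hEa, mul_one]
          _ = a * (ι ν * a) * (ι ν * a * c₂) := by simp only [mul_assoc]
      exact im_congr (hs₂.symm.trans hsa) (shift h hD m₂.hc ha e)
    have hδ₃ : Im M f (ν₁ + ν₂) := by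
      have e : ι ν₁ * f * (ι ν₂ * f) = ι (ν₁ + ν₂) := by
        calc ι ν₁ * f * (ι ν₂ * f) = ι ν₁ * (f * ι ν₂) * f := by simp only [mul_assoc]
          _ = ι ν₁ * ι ν₂ * (f * f) := by rw [h.push f ν₂, hfν₂]; simp only [mul_assoc]
          _ = ι (ν₁ + ν₂) := by rw [tt_mul_self hD.1 hf, mul_one, h.add]
      exact im_congr (fun u => by rw [mul_smul, h.triv]) (shift h hE hEf₂ hEf₁ e)
    set δ := ν + ν₁ with hδd
    set δ' := ν + ν₂ with hδd'
    have hsum : δ + δ' = ν₁ + ν₂ := by
      rw [hδd, hδd']
      calc ν + ν₁ + (ν + ν₂) = ν₁ + ν₂ + (ν + ν) := by abel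
        _ = ν₁ + ν₂ := by rw [h.two, add_zero]
    clear_value δ δ'
    have hcac : c * a * c = b := by
      rw [m.hce]
      have haa := tt_mul_self hD.1 ha
      calc a * b * a * a * (a * b * a) = a * b * (a * a) * (a * b * a) := by simp only [mul_assoc]
        _ = a * (b * a * b) * a := by rw [haa, mul_one]; simp only [mul_assoc]
        _ = a * (a * b * a) * a := by rw [← m.hce', m.hce]
        _ = b := by rw [← mul_assoc, ← mul_assoc, haa, one_mul, mul_assoc, haa, mul_one]
    have haca : a * c * a = b := by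
      rw [m.hce]
      have haa := tt_mul_self hD.1 ha
      calc a * (a * b * a) * a = (a * a) * b * (a * a) := by simp only [mul_assoc]
        _ = b := by rw [haa, one_mul, mul_one]
    have hsc : a • δ + b • δ + c • δ = 0 := by
      rw [← hcac, mul_smul, mul_smul, im_fixed hD m.hc hδ, add_comm (a • δ),
        noncomm_rel' h hD m.hc ha m.hca hδ, h.two]
    have hsa' : a • δ' + b • δ' + c • δ' = 0 := by
      rw [← haca, mul_smul, mul_smul, im_fixed hD ha hδ₂, add_assoc,
        noncomm_rel' h hD ha m.hc (fun e => m.hca e.symm) hδ₂, h.two]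
    have hz : δ + δ' = 0 := off_line h hD ha m.hb m.hc hf hfa hfb hfc (hsum ▸ hδ₃) (by
      simp only [smul_add]
      calc a • δ + a • δ' + (b • δ + b • δ') + (c • δ + c • δ')
          = (a • δ + b • δ + c • δ) + (a • δ' + b • δ' + c • δ') := by abel
        _ = 0 := by rw [hsc, hsa', add_zero])
    have hδ0 : δ = 0 := eq_zero_of_fixed h hD m.hc ha m.hca hδ
      (by rw [h.eq_of_add hz]; exact im_fixed hD ha hδ₂)
    rw [hδd] at hδ0
    rw [h.eq_of_add hδ0, hfν₁]
  have hle : Subgroup.closure D ≤ MulAction.stabilizer G ν := (Subgroup.closure_le _).2 hall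
  have hfix : ∀ g : G, g • ν = ν := fun g => hle (by rw [hD.2.2]; trivial)
  have h1 : ι ν = 1 := h.center _ fun g => by rw [h.push, hfix]
  rw [h1] at hν
  rw [eq_inv_of_mul_eq_one_left hν, tt_inv hD.1 m.hc]
  exact m.hc

/-- The class of 3-transpositions is unique. -/
theorem unique (h : Ctx ι) (hD : IsThreeTranspositionClass D) (hE : IsThreeTranspositionClass E) :
    E = D :=
  Set.Subset.antisymm (fun _ hx => mem_of_mem h hD hE hx) (fun _ hx => mem_of_mem h hE hD hx)

end Cfsg.Agent.Fischer3Mod
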